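import Groth.Agent.H02CA.StrongGen.Iter
import Groth.Agent.H26Def.AdicPic
import Groth.Agent.H16Derived.FMKWit.Main
import Groth.Agent.H16Derived.QCohD.Perfect

/-!
# Perfect objects over a field are finite sums of shifts of the structure sheaf
-/

set_option autoImplicit false
set_option linter.style.haveILetI false
set_option backward.isDefEq.respectTransparency false

universe u

open CategoryTheory CategoryTheory.Limits AlgebraicGeometry CategoryTheory.Pretriangulated CategoryTheory.ObjectProperty

attribute [local instance] HasDerivedCategory.standard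

noncomputable section

namespace Groth.Agent.H02CA.StrongGen

open Groth.Agent.H16Derived Groth.Agent.H16Derived.QCohD Groth.Agent.H10Coh ZeroObject
open DerivedCategory.TStructure (t)

/-- The objects built in no step from the structure sheaf. -/
abbrev G0 (X : Scheme.{u}) : ObjectProperty (DCoh.D X) :=
  ObjectProperty.triangEnvelopeIter
    (ObjectProperty.ofObj (fun _ : PUnit.{u + 1} => DCoh.inD X (Coh.structureModule X))) 0

theorem closed_G0 (X : Scheme.{u}) : (G0 X).IsClosedUnderFiniteProducts := by
  haveI : (G0 X).IsClosedUnderBinaryProducts := by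
    rw [G0, triangEnvelopeIter_zero]
    exact closed_retract _
  haveI : (G0 X).ContainsZero := ⟨⟨0, isZero_zero _, IsStableUnderRetracts.of_retract (P := G0 X)
    ⟨0, 0, (isZero_zero _).eq_of_src _ _⟩
    (ObjectProperty.le_triangEnvelopeIter _ 0 _ (ofObj_apply _ PUnit.unit))⟩⟩
  exact IsClosedUnderFiniteProducts.mk'

theorem mem_single_free (X : Scheme.{u}) (r : ℕ) (b : ℤ) :
    G0 X ((DerivedCategory.singleFunctor X.Modules b).obj (FlatMod.freeMod X r)) := by
  haveI := closed_G0 X
  let S := DerivedCategory.singleFunctor X.Modules b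
  have h1 : G0 X (S.obj (Coh.structureModule X)) :=
    (G0 X).prop_of_iso (((DerivedCategory.singleFunctors X.Modules).shiftIso (-b) b 0 (by omega)).app _)
      (IsStableUnderShiftBy.le_shift (a := -b) _
        (ObjectProperty.le_triangEnvelopeIter _ 0 _ (ofObj_apply _ PUnit.unit)))
  refine (G0 X).prop_of_iso ?_ (ObjectProperty.prop_product (G0 X) (f := fun _ : Fin r => S.obj (Coh.structureModule X)) fun _ => h1)
  exact (biproduct.isoProduct _).symm ≪≫ (S.mapBiproduct fun _ : Fin r => Coh.structureModule X).symm ≪≫
    S.mapIso (biproduct.isoCoproduct _)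

variable {k : Type u} [Field k]

/-- Maps from a free module in one degree lift along a map which is surjective on that cohomology. -/
theorem mem_of_bounded : ∀ (m : ℕ) (a b : ℤ), b - a + 1 ≤ m → ∀ (M : DCoh.D (Spec (CommRingCat.of k))),
    M.IsGE a → M.IsLE b → DCoh.IsCohD M → G0 (Spec (CommRingCat.of k)) M := by
  haveI : IsLocallyNoetherian (Spec (CommRingCat.of k)) := inferInstance
  let X := Spec (CommRingCat.of k)
  haveI := closed_G0 X
  intro m
  induction m with
  | zero =>
    intro a b hk M _ _ _
    exact (G0 X).prop_of_isZero (t.isZero M b a (by omega))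
  | succ m ih =>
    intro a b hk M hMa hMb hM
    haveI := hMa
    haveI := hMb
    let A := (t.truncLT b).obj M
    let B := (t.truncGE b).obj M
    have hT := t.triangleLTGE_distinguished b M
    haveI : DerivedCategory.IsGE B b := inferInstanceAs (t.IsGE _ b)
    haveI : DerivedCategory.IsLE B b := DTrunc.isLE_truncGE M b b
    haveI : DerivedCategory.IsGE A a := DTrunc.isGE_truncLT M b a
    haveI : DerivedCategory.IsLE A (b - 1) := inferInstanceAs (t.IsLE ((t.truncLT b).obj M) (b - 1))
    obtain ⟨N, ⟨e⟩⟩ := B.exists_iso_singleFunctor_obj_of_isGE_of_isLE b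
    have hN : Coh.IsCoh N := by
      haveI := DTrunc.isIso_homology_truncGEπ M b b le_rfl
      exact H10Coh.isCoh_of_iso (asIso ((DerivedCategory.homologyFunctor _ b).map ((t.truncGEπ b).app M)) ≪≫
        (DerivedCategory.homologyFunctor _ b).mapIso e ≪≫ KFlat.Stalk.hdSingle N b) (hM b)
    have hA : DCoh.IsCohD A := fun i => by
      rcases lt_or_ge i b with hi | hi
      · haveI := DTrunc.isIso_homology_truncLTι M b i hi
        exact H10Coh.isCoh_of_iso
          (asIso ((DerivedCategory.homologyFunctor _ i).map ((t.truncLTι b).app M))).symm (hM i)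
      · exact Dual.isCoh_isZero (DerivedCategory.isZero_of_isLE A (b - 1) i (by omega))
    obtain ⟨r, ⟨θ⟩⟩ := H26Def.exists_iso_freeMod_of_field k N hN
    have hB : G0 X B := (G0 X).prop_of_iso ((DerivedCategory.singleFunctor X.Modules b).mapIso θ.symm ≪≫ e.symm)
      (mem_single_free X r b)
    have hAG : G0 X A := ih a (b - 1) (by omega) A inferInstance inferInstance hA
    have h3 : ((t.triangleLTGE b).obj M).mor₃ = 0 := by
      let e' : B ≅ (DerivedCategory.singleFunctor X.Modules b).obj
          (∐ fun _ : Fin r => freeSh (⊤ : X.Opens)) :=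
        e ≪≫ (DerivedCategory.singleFunctor X.Modules b).mapIso (θ ≪≫ Sigma.mapIso fun _ => freeShTopIso.symm)
      haveI : t.IsLE (A⟦(1 : ℤ)⟧) (b - 2) := t.isLE_shift A (b - 1) 1 (b - 2) (by omega)
      have hq : DCoh.IsQCohD (A⟦(1 : ℤ)⟧) := HomVanish.isQCohD_shift (fun i => (hA i).1) 1
      haveI : (DerivedCategory.singleFunctor X.Modules b).Additive := inferInstance
      show ((t.triangleLTGE b).obj M).mor₃ = 0
      rw [← cancel_epi e'.inv, comp_zero]
      haveI : PreservesColimit (Discrete.functor fun _ : Fin r => freeSh (⊤ : X.Opens))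
          (DerivedCategory.singleFunctor X.Modules b) := inferInstance
      refine (cancel_epi (PreservesCoproduct.iso (DerivedCategory.singleFunctor X.Modules b) _).inv).1
        (Sigma.hom_ext _ _ fun i => ?_)
      haveI : IsAffine X := inferInstance
      refine (bijective_θ_affine hq (isAffineOpen_top X) b).1 ?_
      exact (DerivedCategory.isZero_of_isLE (A⟦(1 : ℤ)⟧) (b - 2) b (by omega)).eq_of_tgt _ _
    obtain ⟨eT, -⟩ := exists_iso_binaryBiproduct_of_distTriang _ hT h3
    refine (G0 X).prop_of_iso eT.symm ?_
    haveI : (G0 X).IsClosedUnderBinaryProducts := IsClosedUnderFiniteProducts.isClosedUnderLimitsOfShape _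
    exact (G0 X).prop_of_iso (biprod.isoProd _ _).symm ((G0 X).prop_prod A B hAG hB)

theorem mem_of_isPerfect {F : DCoh.D (Spec (CommRingCat.of k))} (hF : DCoh.IsPerfect F) :
    G0 (Spec (CommRingCat.of k)) F := by
  haveI : IsLocallyNoetherian (Spec (CommRingCat.of k)) := inferInstance
  obtain ⟨a, b, ha, hb⟩ := FMKWit.exists_bounds_of_isPerfect hF
  exact mem_of_bounded (b - a + 1).toNat a b (Int.self_le_toNat _) F ha hb (FMKWit.isCohD_of_isPerfect hF)

end Groth.Agent.H02CA.StrongGen
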