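import Groth.Agent.H02CA.StrongGen.Main
import Groth.Agent.H16Derived.KFlat.PerfRegular
import Groth.Agent.H16Derived.Thomason.Consequences
import Groth.Agent.LeadBrown.AdjointLE
import Groth.Agent.H10Coh.AffineAmple

/-!
# A homological functor on perfect objects is bounded on coherent sheaves
-/

set_option autoImplicit false
set_option linter.style.haveILetI false
set_option backward.isDefEq.respectTransparency false
set_option maxHeartbeats 1000000

universe u v' u'

open CategoryTheory CategoryTheory.Limits AlgebraicGeometry CategoryTheory.Pretriangulated CategoryTheory.ObjectProperty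

attribute [local instance] HasDerivedCategory.standard

noncomputable section

namespace Groth.Agent.H02CA.StrongGen

open Groth.Agent.H16Derived Groth.Agent.H16Derived.KFlat Groth.Agent.H16Derived.KFlat.Stalk
open Groth.Agent.H16Derived.ProjFormula (PTri ptri_TObj ptri_of_isTriangulated)

section Bd

variable {X : Scheme.{u}}

local notation3 "Pf" => (fun K : DCoh.D X => DCoh.IsPerfect K)

variable [ObjectProperty.IsTriangulated (fun K : DCoh.D X => DCoh.IsPerfect K)]
  {A : Type u'} [Category.{v'} A] [Abelian A]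
  (H : (ObjectProperty.FullSubcategory (fun K : DCoh.D X => DCoh.IsPerfect K)) ⥤ A)

/-- `W` is perfect and `H (W⟦i⟧)` vanishes outside `[-N, N]`. -/
def Bd (N : ℕ) : ObjectProperty (DCoh.D X) := fun W =>
  DCoh.IsPerfect W ∧ ∀ i : ℤ, (i < -(N : ℤ) ∨ (N : ℤ) < i) → ∀ h : DCoh.IsPerfect (W⟦i⟧),
    IsZero (H.obj ⟨W⟦i⟧, h⟩)

/-- Shifts in the subcategory of perfect objects are the ambient ones. -/
theorem isZero_H_shift_iff (K : ObjectProperty.FullSubcategory (fun K : DCoh.D X => DCoh.IsPerfect K)) (i : ℤ)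
    (h : DCoh.IsPerfect (K.obj⟦i⟧)) :
    IsZero (H.obj (K⟦i⟧)) ↔ IsZero (H.obj ⟨K.obj⟦i⟧, h⟩) :=
  (H.mapIso (ObjectProperty.isoMk _ (((ObjectProperty.ι _).commShiftIso i).app K) :
    K⟦i⟧ ≅ ⟨K.obj⟦i⟧, h⟩)).isZero_iff

theorem bd_iso {N : ℕ} {W W' : DCoh.D X} (e : W ≅ W') (h : Bd H N W) : Bd H N W' := by
  refine ⟨isPerfect_of_iso e h.1, fun i hi hW' => ?_⟩
  have hW : DCoh.IsPerfect (W⟦i⟧) := isPerfect_of_iso ((shiftFunctor (DCoh.D X) i).mapIso e.symm) hW'
  exact (h.2 i hi hW).of_iso (H.mapIso (ObjectProperty.isoMk _ ((shiftFunctor (DCoh.D X) i).mapIso e.symm)))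

instance closed_bd (N : ℕ) : (Bd H N).IsClosedUnderIsomorphisms := ⟨fun e h => bd_iso H e h⟩

theorem bd_mono {N N' : ℕ} (hN : N ≤ N') {W : DCoh.D X} (h : Bd H N W) : Bd H N' W :=
  ⟨h.1, fun i hi => h.2 i (by omega)⟩

theorem bd_shift {N : ℕ} {W : DCoh.D X} (h : Bd H N W) (a : ℤ) : Bd H (N + a.natAbs) (W⟦a⟧) := by
  refine ⟨ObjectProperty.IsStableUnderShiftBy.le_shift (P := Pf) (a := a) _ h.1, fun i hi hW => ?_⟩
  let e := (shiftFunctorAdd (DCoh.D X) a i).app W
  exact (h.2 (a + i) (by omega) (isPerfect_of_iso e.symm hW)).of_iso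
    (H.mapIso (ObjectProperty.isoMk _ e.symm))

variable [H.IsHomological]

theorem bd_of_isZero (N : ℕ) {W : DCoh.D X} (hW : IsZero W) (hP : DCoh.IsPerfect W) : Bd H N W := by
  refine ⟨hP, fun i _ h => Functor.map_isZero H ?_⟩
  rw [IsZero.iff_id_eq_zero]
  exact ObjectProperty.hom_ext _ ((Functor.map_isZero _ hW).eq_of_src _ _)

theorem bd_retract {N : ℕ} {W W' : DCoh.D X} (r : Retract W W') (h : Bd H N W') : Bd H N W := by
  refine ⟨Thomason.isPerfect_of_retract' r.i r.r r.retract h.1, fun i hi hW => ?_⟩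
  have hW' : DCoh.IsPerfect (W'⟦i⟧) := ObjectProperty.IsStableUnderShiftBy.le_shift (P := Pf) (a := i) _ h.1
  let r' : Retract (⟨W⟦i⟧, hW⟩ : ObjectProperty.FullSubcategory Pf) ⟨W'⟦i⟧, hW'⟩ :=
    { i := ObjectProperty.homMk (r.map (shiftFunctor _ i)).i
      r := ObjectProperty.homMk (r.map (shiftFunctor _ i)).r
      retract := ObjectProperty.hom_ext _ (r.map (shiftFunctor _ i)).retract }
  rw [IsZero.iff_id_eq_zero, ← (r'.map H).retract, (h.2 i hi hW').eq_of_tgt (r'.map H).i 0, zero_comp]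

theorem bd_ext {N : ℕ} (T : Triangle (DCoh.D X)) (hT : T ∈ distTriang _) (h₁ : Bd H N T.obj₁)
    (h₃ : Bd H N T.obj₃) : Bd H N T.obj₂ := by
  refine ⟨?_, fun i hi h2 => ?_⟩
  · obtain ⟨W, hW, ⟨e⟩⟩ := ObjectProperty.ext_of_isTriangulatedClosed₂' Pf T hT h₁.1 h₃.1
    exact isPerfect_of_iso e.symm hW
  · let T' := (Triangle.shiftFunctor (DCoh.D X) i).obj T
    have hT' : T' ∈ distTriang _ := Triangle.shift_distinguished T hT i
    have hi1 : DCoh.IsPerfect T'.obj₁ := ObjectProperty.IsStableUnderShiftBy.le_shift (P := Pf) (a := i) _ h₁.1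
    have hi3 : DCoh.IsPerfect T'.obj₃ := ObjectProperty.IsStableUnderShiftBy.le_shift (P := Pf) (a := i) _ h₃.1
    let K₁ : ObjectProperty.FullSubcategory Pf := ⟨T'.obj₁, hi1⟩
    let K₂ : ObjectProperty.FullSubcategory Pf := ⟨T'.obj₂, h2⟩
    let K₃ : ObjectProperty.FullSubcategory Pf := ⟨T'.obj₃, hi3⟩
    let L : Triangle (ObjectProperty.FullSubcategory Pf) :=
      Triangle.mk (ObjectProperty.homMk T'.mor₁ : K₁ ⟶ K₂) (ObjectProperty.homMk T'.mor₂ : K₂ ⟶ K₃)
        (ObjectProperty.homMk (T'.mor₃ ≫ ((ObjectProperty.ι Pf).commShiftIso (1 : ℤ)).inv.app K₁) :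
          K₃ ⟶ K₁⟦(1 : ℤ)⟧)
    have hL : L ∈ distTriang _ := by
      rw [← (ObjectProperty.ι Pf).map_distinguished_iff]
      refine isomorphic_distinguished _ hT' _ (Triangle.isoMk _ _ (Iso.refl _) (Iso.refl _) (Iso.refl _) ?_ ?_ ?_)
      · exact (Category.comp_id _).trans (Category.id_comp _).symm
      · exact (Category.comp_id _).trans (Category.id_comp _).symm
      · show ((T'.mor₃ ≫ ((ObjectProperty.ι Pf).commShiftIso (1 : ℤ)).inv.app K₁) ≫
            ((ObjectProperty.ι Pf).commShiftIso (1 : ℤ)).hom.app K₁) ≫ (𝟙 T'.obj₁)⟦(1 : ℤ)⟧' = 𝟙 _ ≫ T'.mor₃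
        rw [Category.assoc, Category.assoc, Iso.inv_hom_id_app_assoc, Category.id_comp]
        exact (congrArg (T'.mor₃ ≫ ·) ((shiftFunctor (DCoh.D X) (1 : ℤ)).map_id _)).trans (Category.comp_id _)
    exact (H.map_distinguished_exact L hL).isZero_of_both_zeros
      ((h₁.2 i hi hi1).eq_of_src _ _) ((h₃.2 i hi hi3).eq_of_tgt _ _)

theorem closedProd_bd [(ObjectProperty.ι Pf).Additive] (N : ℕ) : (Bd H N).IsClosedUnderBinaryProducts where
  limitsOfShape_le := by
    rintro W ⟨p⟩
    let F := fun j : WalkingPair => p.diag.obj ⟨j⟩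
    have h : Bd H N (F WalkingPair.left ⨯ F WalkingPair.right) :=
      bd_ext H _ (binaryProductTriangle_distinguished _ _) (p.prop_diag_obj _) (p.prop_diag_obj _)
    exact bd_iso H ((limit.isLimit _).conePointsIsoOfNatIso p.isLimit (diagramIsoPair p.diag).symm) h

/-- A finite bound for one object. -/
theorem exists_bd (hfin : ∀ K : (ObjectProperty.FullSubcategory (fun K : DCoh.D X => DCoh.IsPerfect K)),
      Set.Finite {i : ℤ | ¬ IsZero (H.obj ((shiftFunctor (ObjectProperty.FullSubcategory (fun K : DCoh.D X => DCoh.IsPerfect K)) i).obj K))})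
    {W : DCoh.D X} (hW : DCoh.IsPerfect W) : ∃ N : ℕ, Bd H N W := by
  refine ⟨(hfin ⟨W, hW⟩).toFinset.sup Int.natAbs, hW, fun i hi h => ?_⟩
  refine (isZero_H_shift_iff H ⟨W, hW⟩ i h).1 (by_contra fun hn => ?_)
  have := Finset.le_sup (f := Int.natAbs) ((hfin ⟨W, hW⟩).mem_toFinset.2 hn)
  omega

end Bd

section Field

variable {k : Type u} [Field k]

/-- Properties of objects over a field stable under extensions contain every bounded coherent object as soon as
they contain the shifted free modules. -/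
theorem mem_of_ext (Q : ObjectProperty (DCoh.D (Spec (CommRingCat.of k)))) [Q.IsClosedUnderIsomorphisms]
    (hzero : ∀ M, IsZero M → Q M)
    (hext : ∀ T ∈ distTriang (DCoh.D (Spec (CommRingCat.of k))), Q T.obj₁ → Q T.obj₃ → Q T.obj₂)
    (c d : ℤ) (hfree : ∀ (r : ℕ) (b : ℤ), c ≤ b → b ≤ d →
      Q ((DerivedCategory.singleFunctor _ b).obj (FlatMod.freeMod (Spec (CommRingCat.of k)) r))) :
    ∀ (m : ℕ) (b : ℤ), b - c + 1 ≤ m → b ≤ d → ∀ M : DCoh.D (Spec (CommRingCat.of k)),
      M.IsGE c → M.IsLE b → DCoh.IsCohD M → Q M := by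
  let X := Spec (CommRingCat.of k)
  haveI : IsLocallyNoetherian X := inferInstance
  intro m
  induction m with
  | zero =>
    intro b hb _ M _ _ _
    exact hzero M (DerivedCategory.TStructure.t.isZero M b c (by omega))
  | succ m ih =>
    intro b hk hbd M hMa hMb hM
    haveI := hMa
    haveI := hMb
    by_cases hcb : b < c
    · exact hzero M (DerivedCategory.TStructure.t.isZero M b c hcb)
    let A := (DerivedCategory.TStructure.t.truncLT b).obj M
    let B := (DerivedCategory.TStructure.t.truncGE b).obj M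
    haveI : DerivedCategory.IsGE B b := inferInstanceAs (DerivedCategory.TStructure.t.IsGE _ b)
    haveI : DerivedCategory.IsLE B b := DTrunc.isLE_truncGE M b b
    haveI : DerivedCategory.IsGE A c := DTrunc.isGE_truncLT M b c
    haveI : DerivedCategory.IsLE A (b - 1) :=
      inferInstanceAs (DerivedCategory.TStructure.t.IsLE ((DerivedCategory.TStructure.t.truncLT b).obj M) (b - 1))
    obtain ⟨N, ⟨e⟩⟩ := B.exists_iso_singleFunctor_obj_of_isGE_of_isLE b
    have hN : Coh.IsCoh N := by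
      haveI := DTrunc.isIso_homology_truncGEπ M b b le_rfl
      exact H10Coh.isCoh_of_iso
        (asIso ((DerivedCategory.homologyFunctor _ b).map ((DerivedCategory.TStructure.t.truncGEπ b).app M)) ≪≫
          (DerivedCategory.homologyFunctor _ b).mapIso e ≪≫ KFlat.Stalk.hdSingle N b) (hM b)
    have hA : DCoh.IsCohD A := fun i => by
      rcases lt_or_ge i b with hi | hi
      · haveI := DTrunc.isIso_homology_truncLTι M b i hi
        exact H10Coh.isCoh_of_iso
          (asIso ((DerivedCategory.homologyFunctor _ i).map ((DerivedCategory.TStructure.t.truncLTι b).app M))).symm (hM i)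
      · exact Dual.isCoh_isZero (DerivedCategory.isZero_of_isLE A (b - 1) i (by omega))
    obtain ⟨r, ⟨θ⟩⟩ := H26Def.exists_iso_freeMod_of_field k N hN
    exact hext _ (DerivedCategory.TStructure.t.triangleLTGE_distinguished b M)
      (ih (b - 1) (by omega) (by omega) A inferInstance inferInstance hA)
      (Q.prop_of_iso ((DerivedCategory.singleFunctor X.Modules b).mapIso θ.symm ≪≫ e.symm) (hfree r b (by omega) hbd))

end Field

theorem exists_uniform_bound (k : Type u) [Field k] (X : Scheme.{u}) [X.Over (Spec (.of k))]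
    [Smooth (X ↘ Spec (.of k))] [IsProper (X ↘ Spec (.of k))]
    [ObjectProperty.IsTriangulated (fun K : DCoh.D X => DCoh.IsPerfect K)]
    {A : Type u'} [Category.{v'} A] [Abelian A]
    (H : (ObjectProperty.FullSubcategory (fun K : DCoh.D X => DCoh.IsPerfect K)) ⥤ A) [H.IsHomological]
    (hfin : ∀ K : (ObjectProperty.FullSubcategory (fun K : DCoh.D X => DCoh.IsPerfect K)),
      Set.Finite {i : ℤ | ¬ IsZero (H.obj ((shiftFunctor (ObjectProperty.FullSubcategory (fun K : DCoh.D X => DCoh.IsPerfect K)) i).obj K))}) :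
    ∃ N : ℕ, ∀ F : X.Modules, Coh.IsCoh F → Bd H N (DCoh.inD X F) := by
  let a : X ⟶ Spec (CommRingCat.of k) := X ↘ Spec (.of k)
  haveI : CompactSpace X := QuasiCompact.compactSpace_of_compactSpace a
  haveI : IsLocallyNoetherian X := LocallyOfFiniteType.isLocallyNoetherian a
  have hreg := fun x => H19Grp.isRegularLocalRing_stalk_of_smooth (k := k) a x
  let S := Spec (CommRingCat.of k)
  let p := pullback.fst a a
  let q := pullback.snd a a
  let Pk := pullback a a
  obtain ⟨E, G, hE, hG, henv⟩ := S6734.result k X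
  haveI := hasLpull p
  haveI := hasLpull q
  haveI := hasLpull a
  haveI := QCohD.hasRpush a
  haveI := QCohD.hasRpush q
  haveI := QCohD.hasRpush p
  letI := rpushCommShift q
  haveI := rpush_isTriangulated q
  letI := lpullCommShift a
  haveI := lpull_isTriangulated a
  haveI : Flat a := inferInstance
  haveI : LocallyOfFinitePresentation a := inferInstance
  let Af : X.Modules → DCoh.D Pk ⥤ DCoh.D X := fun F =>
    (Dual.T Pk).obj ((DCoh.Lpull p).obj (DCoh.inD X F)) ⋙ DCoh.Rpush q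
  have hAt : ∀ F, PTri (Af F) := fun F => (ptri_TObj _).comp (ptri_of_isTriangulated (DCoh.Rpush q))
  haveI : ∀ F, (Af F).Additive := fun F => inferInstance
  let Good : ObjectProperty (DCoh.D Pk) := fun Z => DCoh.IsPerfect Z ∧
    ∃ N : ℕ, ∀ F : X.Modules, Coh.IsCoh F → Bd H N ((Af F).obj Z)
  haveI : Good.IsClosedUnderIsomorphisms :=
    ⟨fun e h => ⟨isPerfect_of_iso e h.1, h.2.imp fun N hN F hF => bd_iso H ((Af F).mapIso e) (hN F hF)⟩⟩
  haveI : Good.IsStableUnderRetracts := ⟨fun r h => ⟨Thomason.isPerfect_of_retract' r.i r.r r.retract h.1,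
    h.2.imp fun N hN F hF => bd_retract H (r.map (Af F)) (hN F hF)⟩⟩
  haveI : Good.IsTriangulated :=
    { exists_zero := ⟨_, isZero_zero _, Thomason.isPerfect_zero (isZero_zero _), 0, fun F _ =>
        bd_of_isZero H 0 ((Af F).map_isZero (isZero_zero _)) (Thomason.isPerfect_zero ((Af F).map_isZero (isZero_zero _)))⟩
      isStableUnderShiftBy := fun m => ⟨fun Z hZ => by
        refine ⟨isPerfect_shift hZ.1 m, ?_⟩
        obtain ⟨N, hN⟩ := hZ.2
        refine ⟨N + m.natAbs, fun F hF => ?_⟩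
        obtain ⟨s⟩ := nonempty_shift_iso (hAt F) m Z
        exact bd_iso H s (bd_shift H (hN F hF) m)⟩
      ext₂' := fun T hT h₁ h₃ => by
        refine le_isoClosure _ _ ⟨?_, ?_⟩
        · exact Thomason.isPerfect_obj₂ hT h₁.1 h₃.1
        · obtain ⟨N₁, hN₁⟩ := h₁.2
          obtain ⟨N₃, hN₃⟩ := h₃.2
          refine ⟨max N₁ N₃, fun F hF => ?_⟩
          obtain ⟨T', hT', e₁, e₂, e₃, -, -⟩ := hAt F T hT
          exact bd_iso H e₂ (bd_ext H T' hT' (bd_iso H e₁.symm (bd_mono H (le_max_left _ _) (hN₁ F hF)))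
            (bd_iso H e₃.symm (bd_mono H (le_max_right _ _) (hN₃ F hF)))) }
  -- the image of the box product
  have hbox : Good (DCoh.inD Pk
      (CohB1.tensorMod ((Scheme.Modules.pullback p).obj E) ((Scheme.Modules.pullback q).obj G))) := by
    refine ⟨isPerfect_inD (H10Coh.Tw.isFinLocFree_tensorMod (isFinLocFree_pullback p hE) (isFinLocFree_pullback q hG)), ?_⟩
    obtain ⟨R, hR⟩ := LeadBrown.exists_isLE_rpush a
    let d : ℕ := R.toNat
    let B : DCoh.D S ⥤ DCoh.D X := DCoh.Lpull a ⋙ (Dual.T X).obj (DCoh.inD X G)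
    have hB : PTri B := (ptri_of_isTriangulated (DCoh.Lpull a)).comp (ptri_TObj _)
    haveI : B.Additive := inferInstance
    obtain ⟨N₀, hN₀⟩ := exists_bd H hfin (W := B.obj (DCoh.inD S (Coh.structureModule S))) (isPerfect_T
      (isPerfect_inD hG) (isPerfect_lpull a (isPerfect_inD (H22Alg.PnVan.finLocFree_of_inv (H22Alg.PnDeg0.isInvertible_structure S)))))
    let N := N₀ + d
    refine ⟨N, fun F hF => ?_⟩
    let Q : ObjectProperty (DCoh.D S) := (Bd H N).inverseImage B
    haveI : (Bd H N).IsClosedUnderBinaryProducts := closedProd_bd H N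
    haveI : Q.IsClosedUnderBinaryProducts := closed_inverseImage B _
    haveI : Q.ContainsZero := ⟨⟨_, isZero_zero _, bd_of_isZero H N (B.map_isZero (isZero_zero _)) (Thomason.isPerfect_zero (B.map_isZero (isZero_zero _)))⟩⟩
    haveI : Q.IsClosedUnderFiniteProducts := IsClosedUnderFiniteProducts.mk'
    have hfree : ∀ (r : ℕ) (b : ℤ), 0 ≤ b → b ≤ (d : ℤ) →
        Q ((DerivedCategory.singleFunctor _ b).obj (FlatMod.freeMod S r)) := by
      intro r b hb0 hbd
      let Sb := DerivedCategory.singleFunctor S.Modules b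
      have h1 : Q (Sb.obj (Coh.structureModule S)) := by
        obtain ⟨s⟩ := nonempty_shift_iso hB (-b) (DCoh.inD S (Coh.structureModule S))
        exact bd_iso H (s ≪≫ B.mapIso (((DerivedCategory.singleFunctors S.Modules).shiftIso (-b) b 0 (by omega)).app _))
          (bd_mono H (by omega) (bd_shift H hN₀ (-b)))
      refine Q.prop_of_iso ?_ (ObjectProperty.prop_product Q (f := fun _ : Fin r => Sb.obj (Coh.structureModule S)) fun _ => h1)
      exact (biproduct.isoProduct _).symm ≪≫ (Sb.mapBiproduct fun _ : Fin r => Coh.structureModule S).symm ≪≫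
        Sb.mapIso (biproduct.isoCoproduct _)
    obtain ⟨tFE⟩ := nonempty_inD_tensor F E (isFlat_of_isFinLocFree hE)
    let M := ((Dual.T X).obj (DCoh.inD X F)).obj (DCoh.inD X E)
    have hM : DCoh.IsPerfect M := isPerfect_T (KFlat.Stalk.isPerfect_inD_of_isCoh hreg hF) (isPerfect_inD hE)
    have hMq : DCoh.IsQCohD M := Dual.isQCohD_of_isPerfect hM
    have hRM : DCoh.IsPerfect ((DCoh.Rpush a).obj M) := BaseChange.isPerfect_rpush a hM
    haveI hMge : M.IsGE 0 := DerivedCategory.TStructure.t.isGE_of_iso tFE 0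
    have hge : ((DCoh.Rpush a).obj M).IsGE 0 := KFlat.Stalk.isGE_rpush a M 0
    have hle : ((DCoh.Rpush a).obj M).IsLE (d : ℤ) := by
      haveI := hR M hMq 0 (LeadBrown.isLE_of_iso tFE 0 inferInstance)
      exact DerivedCategory.TStructure.t.isLE_of_le _ (0 + R) (d : ℤ) (by omega)
    have hBF : Bd H N (B.obj ((DCoh.Rpush a).obj M)) :=
      mem_of_ext Q (fun Z hZ => bd_of_isZero H N (B.map_isZero hZ) (Thomason.isPerfect_zero (B.map_isZero hZ)))
        (fun T hT h₁ h₃ => by
          obtain ⟨T', hT', e₁, e₂, e₃, -, -⟩ := hB T hT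
          exact bd_iso H e₂ (bd_ext H T' hT' (bd_iso H e₁.symm h₁) (bd_iso H e₃.symm h₃)))
        0 d hfree (d + 1) d (by omega) le_rfl _ hge hle (FMKWit.isCohD_of_isPerfect hRM)
    obtain ⟨t⟩ := nonempty_inD_tensor ((Scheme.Modules.pullback p).obj E) ((Scheme.Modules.pullback q).obj G)
      (isFlat_of_isFinLocFree (isFinLocFree_pullback q hG))
    obtain ⟨lp⟩ := LeadBrown.nonempty_lpull_TFlip p (DCoh.inD X E)
    obtain ⟨pE⟩ := H25FM.nonempty_lpull_inD p (isFlat_of_isFinLocFree hE)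
    obtain ⟨qG⟩ := H25FM.nonempty_lpull_inD q (isFlat_of_isFinLocFree hG)
    let LK := (DCoh.Lpull p).obj (DCoh.inD X F)
    let s : ((Dual.T Pk).obj LK).obj (DCoh.inD Pk ((Scheme.Modules.pullback p).obj E)) ≅ (DCoh.Lpull p).obj M :=
      ((Dual.T Pk).obj LK).mapIso pE.symm ≪≫ (lp.app (DCoh.inD X F)).symm
    obtain ⟨π⟩ := nonempty_projection q (QCohD.isQCohD_lpull p hMq) (Dual.isQCohD_of_isPerfect (isPerfect_inD hG))
    obtain ⟨e, he⟩ := S1058.result a a (lpullRpushAdj a) (lpullRpushAdj p)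
    haveI := he M hMq
    refine bd_iso H ?_ hBF
    let bc : (DCoh.Lpull a).obj ((DCoh.Rpush a).obj M) ≅ (DCoh.Rpush q).obj ((DCoh.Lpull p).obj M) :=
      asIso (DCoh.baseChangeApp (lpullRpushAdj a) (lpullRpushAdj p) e M)
    exact Dual.σ _ _ ≪≫ ((Dual.T X).mapIso bc).app (DCoh.inD X G) ≪≫ π.symm ≪≫ (DCoh.Rpush q).mapIso
      (((Dual.T Pk).obj _).mapIso qG ≪≫ ((Dual.T Pk).mapIso s.symm).app _ ≪≫ Dual.α _ _ _ ≪≫
        ((Dual.T Pk).obj LK).mapIso t.symm)
  obtain ⟨-, N, hN⟩ := (triangEnvelope_le_iff (Q := Good) _).2 (by rintro _ ⟨-⟩; exact hbox) _ henv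
  let Δ := DCoh.inD Pk ((Coh.push (pullback.diagonal a)).obj (Coh.structureModule X))
  obtain ⟨Kc, -, ⟨eK⟩⟩ := exists_kflat_rep Δ
  haveI := hasLTensorCx Kc
  obtain ⟨φ⟩ := S13565.result a Kc ⟨eK⟩
  refine ⟨N, fun F hF => bd_iso H ?_ (hN F hF)⟩
  exact (DCoh.Rpush q).mapIso (((Dual.T Pk).obj _).mapIso eK.symm ≪≫ (Dual.ltensorCxIsoT Kc).app _) ≪≫
    φ.app _

end Groth.Agent.H02CA.StrongGen
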