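import Groth.Agent.LeadBrown.BCCore
import Mathlib.CategoryTheory.Triangulated.Generators
import Mathlib.CategoryTheory.ObjectProperty.Retract
import Mathlib.CategoryTheory.ObjectProperty.LimitsClosure

/-!
# Functors preserving triangles respect bounded envelopes
-/

set_option autoImplicit false
set_option linter.style.haveILetI false

universe v v' u u'

open CategoryTheory CategoryTheory.Limits CategoryTheory.Pretriangulated CategoryTheory.ObjectProperty
open scoped ZeroObject

namespace Groth.Agent.H02CA.StrongGen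

open Groth.Agent.H16Derived.ProjFormula

section Closed

variable {D : Type u'} [Category.{v'} D] [HasFiniteProducts D]

theorem closed_retract (Q : ObjectProperty D) [Q.IsClosedUnderBinaryProducts] :
    Q.retractClosure.IsClosedUnderBinaryProducts where
  limitsOfShape_le := by
    rintro X ⟨p⟩
    choose Y hY r using fun j => p.prop_diag_obj j
    let r' := fun j => (r j).some
    have hP : Q (limit (Discrete.functor fun j => Y ⟨j⟩)) :=
      Q.prop_of_isLimit (limit.isLimit _) (by rintro ⟨j⟩; exact hY ⟨j⟩)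
    refine ⟨_, hP, ⟨⟨limit.lift _ (Cone.mk X (Discrete.natTrans fun j => p.π.app j ≫ (r' j).i)),
      p.isLimit.lift (Cone.mk _ (Discrete.natTrans fun j => limit.π (Discrete.functor fun j => Y ⟨j⟩) j ≫ (r' j).r)),
      p.isLimit.hom_ext fun j => ?_⟩⟩⟩
    rw [Category.assoc, p.isLimit.fac, Category.id_comp]
    dsimp [Discrete.natTrans]
    rw [limit.lift_π_assoc]
    simp

/-- The inverse image of a property closed under binary products is closed under binary products. -/
theorem closed_inverseImage {C : Type u} [Category.{v} C] (A : C ⥤ D)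
    [PreservesLimitsOfShape (Discrete WalkingPair) A] (Q : ObjectProperty D) [Q.IsClosedUnderBinaryProducts] :
    (Q.inverseImage A).IsClosedUnderBinaryProducts where
  limitsOfShape_le := by
    rintro X ⟨p⟩
    exact Q.prop_of_isLimit (isLimitOfPreserves A p.isLimit) fun j => p.prop_diag_obj j

end Closed

variable {C : Type u} [Category.{v} C] [Preadditive C] [HasZeroObject C] [HasShift C ℤ]
  [∀ n : ℤ, (shiftFunctor C n).Additive] [Pretriangulated C]
  {D : Type u'} [Category.{v'} D] [Preadditive D] [HasZeroObject D] [HasShift D ℤ]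
  [∀ n : ℤ, (shiftFunctor D n).Additive] [Pretriangulated D]

/-- Functors preserving triangles commute with all shifts on objects. -/
theorem nonempty_shift_iso {A : C ⥤ D} [A.Additive] (hA : PTri A) (n : ℤ) :
    ∀ K : C, Nonempty ((A.obj K)⟦n⟧ ≅ A.obj (K⟦n⟧)) := by
  induction n using Int.induction_on with
  | zero => exact fun K => ⟨(shiftFunctorZero D ℤ).app _ ≪≫ A.mapIso ((shiftFunctorZero C ℤ).app K).symm⟩
  | succ i ih =>
    intro K
    obtain ⟨a⟩ := ih K
    obtain ⟨b⟩ := LeadBrown.PTri.nonempty_shift_iso hA (K⟦(i : ℤ)⟧)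
    exact ⟨(shiftFunctorAdd D (i : ℤ) 1).app _ ≪≫ (shiftFunctor D (1 : ℤ)).mapIso a ≪≫ b ≪≫
      A.mapIso ((shiftFunctorAdd C (i : ℤ) 1).app K).symm⟩
  | pred i ih =>
    intro K
    obtain ⟨a⟩ := ih K
    obtain ⟨b⟩ := LeadBrown.PTri.nonempty_shift_iso hA (K⟦(-(i : ℤ) - 1)⟧)
    let a' := a ≪≫ A.mapIso ((shiftFunctorAdd' C (-(i : ℤ) - 1) 1 (-(i : ℤ)) (by omega)).app K) ≪≫ b.symm
    exact ⟨(shiftFunctorAdd' D (-(i : ℤ)) (-1) (-(i : ℤ) - 1) (by omega)).app _ ≪≫
      (shiftFunctor D (-1 : ℤ)).mapIso a' ≪≫ (shiftShiftNeg _ (1 : ℤ))⟩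

variable [IsTriangulated C] [IsTriangulated D]

/-- A functor preserving triangles maps `⟨P⟩_n` into `⟨Q⟩_n` if it maps `P` into `⟨Q⟩_0`. -/
theorem map_iter {A : C ⥤ D} [A.Additive] (hA : PTri A) {P : ObjectProperty C} {Q : ObjectProperty D}
    (h : ∀ X, P X → Q.triangEnvelopeIter 0 (A.obj X)) :
    ∀ n X, P.triangEnvelopeIter n X → Q.triangEnvelopeIter n (A.obj X) := by
  have hs : ∀ {Z : D} (m : ℤ), Q.triangEnvelopeIter 0 Z → Q.triangEnvelopeIter 0 (Z⟦m⟧) := fun {Z} m hZ =>
    IsStableUnderShiftBy.le_shift (a := m) _ hZ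
  have h0 : (P.shiftClosure ℤ).binaryProductsClosure.retractClosure ≤ (Q.triangEnvelopeIter 0).inverseImage A := by
    haveI : (Q.triangEnvelopeIter 0).IsClosedUnderIsomorphisms := inferInstance
    haveI : ((Q.triangEnvelopeIter 0).inverseImage A).IsStableUnderRetracts :=
      ⟨fun r hY => IsStableUnderRetracts.of_retract (P := Q.triangEnvelopeIter 0) (r.map A) hY⟩
    haveI : ((Q.triangEnvelopeIter 0).inverseImage A).IsClosedUnderBinaryProducts := by
      haveI : (Q.triangEnvelopeIter 0).IsClosedUnderBinaryProducts := by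
        rw [triangEnvelopeIter_zero]
        exact closed_retract _
      exact closed_inverseImage A _
    refine (retractClosure_le_iff _ _).mpr (limitsClosure_le ?_)
    rintro X ⟨Y, a, e, hY⟩
    obtain ⟨s⟩ := nonempty_shift_iso hA a Y
    exact (Q.triangEnvelopeIter 0).prop_of_iso (s ≪≫ A.mapIso e.symm) (hs a (h Y hY))
  intro n
  induction n with
  | zero =>
    intro X hX
    rw [triangEnvelopeIter_zero] at hX
    exact h0 X hX
  | succ n ih =>
    intro X hX
    rw [triangEnvelopeIter_succ] at hX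
    obtain ⟨Y, ⟨Z₁, Z₃, f, g, w, hT, h₁, h₃⟩, ⟨r⟩⟩ := hX
    obtain ⟨T', hT', e₁, e₂, e₃, -, -⟩ := hA _ hT
    refine IsStableUnderRetracts.of_retract (r.map A) ((Q.triangEnvelopeIter (n + 1)).prop_of_iso e₂ ?_)
    rw [triangEnvelopeIter_succ]
    refine le_retractClosure _ _ ⟨T'.obj₁, T'.obj₃, T'.mor₁, T'.mor₂, T'.mor₃, hT', ?_, ?_⟩
    · have := (Q.triangEnvelopeIter 0).prop_of_iso e₁.symm (h0 _ h₁)
      rwa [triangEnvelopeIter_zero] at this
    · exact (Q.triangEnvelopeIter n).prop_of_iso e₃.symm (ih _ h₃)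

end Groth.Agent.H02CA.StrongGen
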