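import Groth.Agent.H02CA.StrongGen.Field
import Groth.Agent.S6734
import Groth.Agent.S13565
import Groth.Agent.LeadBrown.LpullTensor
import Groth.Agent.LeadBrown.PerfTensor
import Groth.Agent.H25FM.ProjT
import Groth.Agent.H16Derived.PnD.PC
import Groth.Agent.S1058

/-!
# A strong generator of the perfect objects of a smooth proper scheme over a field
-/

set_option autoImplicit false
set_option linter.style.haveILetI false
set_option backward.isDefEq.respectTransparency false
set_option maxHeartbeats 1000000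

universe u

open CategoryTheory CategoryTheory.Limits AlgebraicGeometry CategoryTheory.Pretriangulated

attribute [local instance] HasDerivedCategory.standard

noncomputable section

namespace Groth.Agent.H02CA.StrongGen

open Groth.Agent.H16Derived Groth.Agent.H16Derived.KFlat Groth.Agent.H16Derived.KFlat.Stalk
open Groth.Agent.H16Derived.ProjFormula (PTri ptri_TObj ptri_of_isTriangulated)

variable {X Y : Scheme.{u}}

theorem isPerfect_T {a b : DCoh.D X} (ha : DCoh.IsPerfect a) (hb : DCoh.IsPerfect b) :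
    DCoh.IsPerfect (((Dual.T X).obj a).obj b) := by
  obtain ⟨L, hL, ⟨e⟩⟩ := exists_kflat_rep b
  haveI := hasLTensorCx L
  exact isPerfect_of_iso ((Dual.ltensorCxIsoT L).symm.app a ≪≫ ((Dual.T X).obj a).mapIso e)
    (isPerfect_ltensorCx L ((isKFlat_iff' L).2 hL) (isPerfect_of_iso e.symm hb) ha)

/-- A module tensored with a flat one, through the bifunctor. -/
theorem nonempty_inD_tensor (M N : X.Modules) (hN : FlatMod.IsFlat N) :
    Nonempty (DCoh.inD X (CohB1.tensorMod M N) ≅ ((Dual.T X).obj (DCoh.inD X M)).obj (DCoh.inD X N)) := by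
  haveI := hasLTensorMod N
  obtain ⟨a⟩ := H25FM.nonempty_ltensorMod_inD M N hN
  obtain ⟨b⟩ := H25FM.nonempty_T_inD hN
  exact ⟨a.symm ≪≫ b.symm.app _ ≪≫ Dual.σ _ _⟩

/-- The projection formula. -/
theorem nonempty_projection (f : X ⟶ Y) [QuasiCompact f] [QuasiSeparated f] [DCoh.HasLpull f] [DCoh.HasRpush f]
    {E : DCoh.D X} (hE : DCoh.IsQCohD E) {F : DCoh.D Y} (hF : DCoh.IsQCohD F) :
    Nonempty ((DCoh.Rpush f).obj (((Dual.T X).obj E).obj ((DCoh.Lpull f).obj F)) ≅
      ((Dual.T Y).obj ((DCoh.Rpush f).obj E)).obj F) := by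
  haveI := isGrothendieckAbelian_modules (X := X)
  obtain ⟨N, j, hN⟩ := KInjRes.exists_resolution_functor (A := X.Modules)
  let C := DerivedCategory.Q.objPreimage E
  let I := N.obj C
  haveI : I.IsKInjective := (hN C).2.2.1
  haveI : IsIso (DerivedCategory.Q.map (j.app C)) := KFlat.Stalk.isIso_Q_map _ (hN C).2.1
  let eI : DerivedCategory.Q.obj I ≅ E :=
    (asIso (DerivedCategory.Q.map (j.app C))).symm ≪≫ DerivedCategory.Q.objObjPreimageIso _
  haveI := ProjFormula.isIso_η₀ f I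
  haveI := ProjFormula.isIso_θ_of_isQCohD f I (QCohD.isQCohD_iso eI.symm hE) F hF
  let e₁ : DerivedCategory.Q.obj ((ProjFormula.pushCx f).obj I) ≅ (DCoh.Rpush f).obj E :=
    asIso ((ProjFormula.η₀ f).app I) ≪≫ (DCoh.Rpush f).mapIso eI
  exact ⟨(DCoh.Rpush f).mapIso (((Dual.T X).mapIso eI).app _).symm ≪≫ (asIso ((ProjFormula.θ f I).app F)).symm ≪≫
    ((Dual.T Y).mapIso e₁).app F⟩

theorem exists_generator (k : Type u) [Field k] (X : Scheme.{u}) [X.Over (Spec (.of k))]
    [IsProper (X ↘ Spec (.of k))] [Smooth (X ↘ Spec (.of k))] :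
    ∃ (E : DCoh.D X) (n : ℕ), DCoh.IsPerfect E ∧
      ∀ K : DCoh.D X, DCoh.IsPerfect K →
        ObjectProperty.triangEnvelopeIter (ObjectProperty.ofObj (fun _ : PUnit.{u + 1} => E)) n K := by
  let a : X ⟶ Spec (CommRingCat.of k) := X ↘ Spec (.of k)
  haveI : CompactSpace X := QuasiCompact.compactSpace_of_compactSpace a
  let p := pullback.fst a a
  let q := pullback.snd a a
  let S := Spec (CommRingCat.of k)
  obtain ⟨E, G, hE, hG, henv⟩ := S6734.result k X
  obtain ⟨n, hn⟩ := (ObjectProperty.prop_triangEnvelope_iff _ _).1 henv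
  refine ⟨DCoh.inD X G, n, isPerfect_inD hG, fun K hK => ?_⟩
  haveI := hasLpull p
  haveI := hasLpull q
  haveI := hasLpull a
  haveI := QCohD.hasRpush a
  haveI := QCohD.hasRpush q
  haveI := QCohD.hasRpush p
  letI := rpushCommShift q
  haveI := rpush_isTriangulated q
  letI := lpullCommShift a
  haveI := lpull_isTriangulated a
  haveI : Flat a := inferInstance
  let Pk := pullback a a
  let LK := (DCoh.Lpull p).obj K
  let A : DCoh.D Pk ⥤ DCoh.D X := (Dual.T Pk).obj LK ⋙ DCoh.Rpush q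
  have hA : PTri A := (ptri_TObj LK).comp (ptri_of_isTriangulated (DCoh.Rpush q))
  let B : DCoh.D S ⥤ DCoh.D X := DCoh.Lpull a ⋙ (Dual.T X).obj (DCoh.inD X G)
  have hB : PTri B := (ptri_of_isTriangulated (DCoh.Lpull a)).comp (ptri_TObj _)
  -- the image of the box product
  have hbox : ObjectProperty.triangEnvelopeIter (ObjectProperty.ofObj (fun _ : PUnit.{u + 1} => DCoh.inD X G)) 0
      (A.obj (DCoh.inD Pk (CohB1.tensorMod ((Scheme.Modules.pullback p).obj E) ((Scheme.Modules.pullback q).obj G)))) := by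
    let M := ((Dual.T X).obj K).obj (DCoh.inD X E)
    have hM : DCoh.IsPerfect M := isPerfect_T hK (isPerfect_inD hE)
    have hMq : DCoh.IsQCohD M := Dual.isQCohD_of_isPerfect hM
    obtain ⟨t⟩ := nonempty_inD_tensor ((Scheme.Modules.pullback p).obj E) ((Scheme.Modules.pullback q).obj G)
      (isFlat_of_isFinLocFree (isFinLocFree_pullback q hG))
    obtain ⟨lp⟩ := LeadBrown.nonempty_lpull_TFlip p (DCoh.inD X E)
    obtain ⟨pE⟩ := H25FM.nonempty_lpull_inD p (isFlat_of_isFinLocFree hE)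
    obtain ⟨qG⟩ := H25FM.nonempty_lpull_inD q (isFlat_of_isFinLocFree hG)
    let s : ((Dual.T Pk).obj LK).obj (DCoh.inD Pk ((Scheme.Modules.pullback p).obj E)) ≅ (DCoh.Lpull p).obj M :=
      ((Dual.T Pk).obj LK).mapIso pE.symm ≪≫ (lp.app K).symm
    obtain ⟨π⟩ := nonempty_projection q (QCohD.isQCohD_lpull p hMq) (Dual.isQCohD_of_isPerfect (isPerfect_inD hG))
    obtain ⟨e, he⟩ := S1058.result a a (lpullRpushAdj a) (lpullRpushAdj p)
    haveI := he M hMq
    let bc : (DCoh.Lpull a).obj ((DCoh.Rpush a).obj M) ≅ (DCoh.Rpush q).obj ((DCoh.Lpull p).obj M) :=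
      asIso (DCoh.baseChangeApp (lpullRpushAdj a) (lpullRpushAdj p) e M)
    haveI : LocallyOfFinitePresentation a := inferInstance
    have hF : DCoh.IsPerfect ((DCoh.Rpush a).obj M) := BaseChange.isPerfect_rpush a hM
    have hBF : ObjectProperty.triangEnvelopeIter (ObjectProperty.ofObj (fun _ : PUnit.{u + 1} => DCoh.inD X G)) 0
        (B.obj ((DCoh.Rpush a).obj M)) := by
      refine map_iter hB ?_ 0 _ (mem_of_isPerfect hF)
      rintro _ ⟨-⟩
      obtain ⟨aO⟩ := H25FM.nonempty_lpull_inD a (isFlat_of_isFinLocFree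
        (H22Alg.PnVan.finLocFree_of_inv (H22Alg.PnDeg0.isInvertible_structure S)))
      refine ObjectProperty.prop_of_iso _ ?_ (ObjectProperty.le_triangEnvelopeIter _ 0 _ (ObjectProperty.ofObj_apply _ PUnit.unit))
      exact ((Dual.rightUnit (X := X)).app (DCoh.inD X G)).symm ≪≫
        ((Dual.T X).obj (DCoh.inD X G)).mapIso (Dual.oneIso.symm ≪≫
          (DerivedCategory.singleFunctor X.Modules 0).mapIso (structurePullbackIso a).symm ≪≫ aO.symm)
    refine ObjectProperty.prop_of_iso _ ?_ hBF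
    exact Dual.σ _ _ ≪≫ ((Dual.T X).mapIso bc).app (DCoh.inD X G) ≪≫ π.symm ≪≫ (DCoh.Rpush q).mapIso
      (((Dual.T Pk).obj _).mapIso qG ≪≫ ((Dual.T Pk).mapIso s.symm).app _ ≪≫ Dual.α _ _ _ ≪≫
        ((Dual.T Pk).obj LK).mapIso t.symm)
  have h := map_iter hA (Q := ObjectProperty.ofObj (fun _ : PUnit.{u + 1} => DCoh.inD X G))
    (fun Z hZ => by obtain ⟨-⟩ := hZ; exact hbox) n _ hn
  let Δ := DCoh.inD Pk ((Coh.push (pullback.diagonal a)).obj (Coh.structureModule X))
  obtain ⟨Kc, -, ⟨eK⟩⟩ := exists_kflat_rep Δ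
  haveI := hasLTensorCx Kc
  obtain ⟨φ⟩ := S13565.result a Kc ⟨eK⟩
  refine ObjectProperty.prop_of_iso _ ?_ h
  exact (DCoh.Rpush q).mapIso (((Dual.T Pk).obj LK).mapIso eK.symm ≪≫ (Dual.ltensorCxIsoT Kc).app LK) ≪≫
    φ.app K

end Groth.Agent.H02CA.StrongGen
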